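import Mathlib
import Cfsg.Agent.Lib.Transfer.Basic

/-!
A group `Ω` of automorphisms of a finite abelian group `T`, all of whose non-identity members have
the same fixed subgroup `Z`: if `T` has elements outside `Z` of `r`-power and of `q`-power order
for distinct primes `r`, `q`, then `r` and `q` do not both divide `|Ω|`.
-/

set_option autoImplicit false
set_option linter.all false

namespace Cfsg.Agent.Lib.TwoClassSizes

open Subgroup

variable {Ω T : Type*} [Group Ω] [Finite Ω] [CommGroup T] [Finite T]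

/-- Every non-identity element fixes exactly `Z`. -/
structure Semiregular (α : Ω →* MulAut T) (Z : Subgroup T) : Prop where
  fixed : ∀ ω, ∀ t ∈ Z, α ω t = t
  free : ∀ ω t, ω ≠ 1 → α ω t = t → t ∈ Z

/-- `T` has an element of `p`-power order outside `Z`. -/
def HasPart (p : ℕ) (Z : Subgroup T) : Prop := ∃ u : T, u ∉ Z ∧ ∃ j : ℕ, u ^ p ^ j = 1

variable {α : Ω →* MulAut T} {Z : Subgroup T}

theorem mem_of_pow_mem {p n : ℕ} (hn : n.Coprime p) {u : T} (hu : ∃ j : ℕ, u ^ p ^ j = 1)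
    (h : u ^ n ∈ Z) : u ∈ Z := by
  obtain ⟨j, hj⟩ := hu
  obtain ⟨m, hm⟩ := exists_pow_eq_self_of_coprime (x := u) (n := n)
    ((hn.pow_right j).coprime_dvd_right (orderOf_dvd_of_pow_eq_one hj))
  rw [← hm]; exact Z.pow_mem h m

theorem Semiregular.norm_mem (S : Semiregular α Z) {g : Ω} (hg : g ≠ 1)
    [Fintype (zpowers g)] (t : T) : ∏ x : zpowers g, α (x : Ω) t ∈ Z := by
  refine S.free g _ hg ?_
  rw [map_prod]
  refine Fintype.prod_equiv (Equiv.mulLeft (⟨g, mem_zpowers g⟩ : zpowers g)) _ _ fun x => ?_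
  simp [map_mul]

theorem Semiregular.norm_range_mem (S : Semiregular α Z) {k : Ω} {s : ℕ} (hk : orderOf k = s)
    (hs : 1 < s) (t : T) : ∏ b ∈ Finset.range s, α (k ^ b) t ∈ Z := by
  have hk1 : k ≠ 1 := by rintro rfl; simp at hk; omega
  refine S.free k _ hk1 ?_
  rw [map_prod]
  have h0 : α (k ^ s) t = α (k ^ 0) t := by rw [← hk, pow_orderOf_eq_one, pow_zero]
  have h1 := Finset.prod_range_succ' (fun b => α (k ^ b) t) s
  rw [Finset.prod_range_succ, h0, mul_left_inj] at h1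
  rw [h1]
  refine Finset.prod_congr rfl fun b _ => ?_
  rw [pow_succ', map_mul]; rfl

/-- Partition trick: if the `r` cyclic groups `⟨k a⟩` of order `s` meet each coset of `⟨g⟩` in
`⟨g⟩⟨h⟩` outside `⟨g⟩` once, then `T ^ r ≤ Z`. -/
theorem Semiregular.pow_mem_of_family (S : Semiregular α Z) {g h : Ω} {r s : ℕ} (hg : g ≠ 1)
    (hr : orderOf g = r) (hs : 1 < s) (k : Fin r → Ω) (hk : ∀ a, orderOf (k a) = s)
    (hmem : ∀ b a, (k a) ^ b * (h ^ b)⁻¹ ∈ zpowers g)
    (hinj : ∀ b, 0 < b → b < s → ∀ a a', (k a) ^ b = (k a') ^ b → a = a') (v : T) :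
    v ^ r ∈ Z := by
  classical
  haveI := Fintype.ofFinite (zpowers g)
  have hcard : Fintype.card (zpowers g) = r := by
    rw [← Nat.card_eq_fintype_card, Nat.card_zpowers, hr]
  obtain ⟨s', rfl⟩ : ∃ s', s = s' + 1 := ⟨s - 1, by omega⟩
  have h1 : ∏ a, ∏ b ∈ Finset.range (s' + 1), α (k a ^ b) v ∈ Z :=
    Z.prod_mem fun a _ => S.norm_range_mem (hk a) hs v
  simp only [Finset.prod_range_succ', pow_zero, map_one, MulAut.one_apply] at h1
  rw [Finset.prod_mul_distrib, Finset.prod_const, Finset.card_univ, Fintype.card_fin,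
    Finset.prod_comm] at h1
  refine (Z.mul_mem_cancel_left (Z.prod_mem fun b hb => ?_)).1 h1
  rw [Finset.mem_range] at hb
  let f : Fin r → zpowers g := fun a => ⟨(k a) ^ (b + 1) * (h ^ (b + 1))⁻¹, hmem _ a⟩
  have hf : Function.Bijective f := by
    refine (Fintype.bijective_iff_injective_and_card f).2 ⟨fun a a' e => ?_, by
      rw [hcard, Fintype.card_fin]⟩
    exact hinj (b + 1) (by omega) (by omega) a a' (mul_right_cancel (Subtype.ext_iff.1 e))
  have e : ∀ a, α (k a ^ (b + 1)) v = α (f a : Ω) (α (h ^ (b + 1)) v) := fun a => by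
    rw [← MulAut.mul_apply, ← map_mul]; simp [f]
  simp only [e]
  rw [Fintype.prod_bijective f hf _ (fun x => α (x : Ω) (α (h ^ (b + 1)) v)) fun _ => rfl]
  exact S.norm_mem hg _

theorem zpowers_pow_eq_of_prime {g : Ω} {r : ℕ} (hr : r.Prime) (hg : orderOf g = r) {d : Ω}
    (hd : d ∈ zpowers g) (hd1 : d ≠ 1) : g ∈ zpowers d := by
  haveI := Fact.mk hr
  have hc : Nat.card (zpowers g) = r := by rw [Nat.card_zpowers, hg]
  have := mem_zpowers_of_prime_card hc (g := (⟨d, hd⟩ : zpowers g)) (g' := ⟨g, mem_zpowers g⟩)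
    (fun e => hd1 (congrArg Subtype.val e))
  obtain ⟨i, hi⟩ := mem_zpowers_iff.1 this
  exact mem_zpowers_iff.2 ⟨i, by simpa using congrArg Subtype.val hi⟩

theorem mem_zpowers_pow {h : Ω} {s b : ℕ} (hs : s.Prime) (hh : orderOf h = s) (hb : 0 < b)
    (hb' : b < s) : h ∈ zpowers (h ^ b) :=
  zpowers_pow_eq_of_prime hs hh (pow_mem (mem_zpowers h) b)
    (pow_ne_one_of_lt_orderOf hb.ne' (hh ▸ hb'))

theorem commute_of_conj_eq_conj {A A' B : Ω} (e : A * B * A⁻¹ = A' * B * A'⁻¹) :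
    Commute (A'⁻¹ * A) B :=
  calc A'⁻¹ * A * B = A'⁻¹ * (A * B * A⁻¹) * A := by group
    _ = A'⁻¹ * (A' * B * A'⁻¹) * A := by rw [e]
    _ = B * (A'⁻¹ * A) := by group

theorem conj_mem_zpowers {g h : Ω} (hn : h * g * h⁻¹ ∈ zpowers g) {x : Ω} (hx : x ∈ zpowers g)
    (b : ℕ) : h ^ b * x * (h ^ b)⁻¹ ∈ zpowers g := by
  induction b with
  | zero => simpa using hx
  | succ b ih =>
    obtain ⟨i, hi⟩ := mem_zpowers_iff.1 ih
    rw [show h ^ (b + 1) * x * (h ^ (b + 1))⁻¹ = h * (h ^ b * x * (h ^ b)⁻¹) * h⁻¹ by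
      rw [pow_succ']; group, ← hi, ← conj_zpow]
    exact zpow_mem hn i

/-- An `r`-group of semiregular automorphisms fixes some `r`-element outside `Z` modulo `Z`. -/
theorem Semiregular.exists_fixed_mod (S : Semiregular α Z) {r : ℕ} [Fact r.Prime]
    (hT : HasPart r Z) {P : Subgroup Ω} (hP : IsPGroup r P) :
    ∃ u : T, u ∉ Z ∧ (∃ j : ℕ, u ^ r ^ j = 1) ∧ ∀ ω ∈ P, α ω u * u⁻¹ ∈ Z := by
  classical
  let β : Ω → T ⧸ Z →* T ⧸ Z := fun ω => QuotientGroup.map Z Z (α ω).toMonoidHom fun t ht => by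
    simpa [S.fixed ω t ht] using ht
  have hβ : ∀ ω (t : T), β ω (QuotientGroup.mk t) = QuotientGroup.mk (α ω t) := fun _ _ => rfl
  let X := {x : T ⧸ Z // ∃ j : ℕ, x ^ r ^ j = 1}
  letI : MulAction P X :=
    { smul := fun ω x => ⟨β ω x.1, x.2.imp fun j hj => by rw [← map_pow, hj, map_one]⟩
      one_smul := by
        rintro ⟨x, hx⟩
        obtain ⟨t, rfl⟩ := QuotientGroup.mk_surjective x
        exact Subtype.ext (by
          show β (1 : P) (t : T ⧸ Z) = _
          rw [hβ]; simp)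
      mul_smul := by
        rintro ω ω' ⟨x, hx⟩
        obtain ⟨t, rfl⟩ := QuotientGroup.mk_surjective x
        exact Subtype.ext (by
          show β (ω * ω' : P) (t : T ⧸ Z) = β ω (β ω' (t : T ⧸ Z))
          rw [hβ, hβ, hβ]; simp) }
  obtain ⟨u, hu, j, hj⟩ := hT
  have hX : r ∣ Nat.card X := by
    let G' : Subgroup (T ⧸ Z) := CommGroup.primaryComponent (T ⧸ Z) r
    have hG : IsPGroup r G' := fun g => by
      obtain ⟨k, hk⟩ := g.2
      exact ⟨k, Subtype.ext (by simpa using hk)⟩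
    obtain ⟨n, hn⟩ := IsPGroup.iff_card.1 hG
    haveI : Nontrivial G' :=
      ⟨⟨⟨(u : T ⧸ Z), j, by rw [← QuotientGroup.mk_pow, hj]; rfl⟩, 1,
        fun e => hu ((QuotientGroup.eq_one_iff u).1 (congrArg Subtype.val e))⟩⟩
    show r ∣ Nat.card G'
    rw [hn]
    refine dvd_pow_self r fun h0 => ?_
    rw [h0, pow_zero] at hn
    exact Finite.one_lt_card.ne' hn
  let one' : X := ⟨1, 0, one_pow _⟩
  obtain ⟨⟨x, i, hi⟩, hxf, hx1⟩ := hP.exists_fixed_point_of_prime_dvd_card_of_fixed_point X hX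
    (a := one') (MulAction.mem_fixedPoints.2 fun ω => Subtype.ext (map_one _))
  obtain ⟨t, rfl⟩ := QuotientGroup.mk_surjective x
  have htZ : t ∉ Z := fun h => hx1 (Subtype.ext ((QuotientGroup.eq_one_iff t).2 h).symm)
  rw [← QuotientGroup.mk_pow, QuotientGroup.eq_one_iff] at hi
  obtain ⟨a, b, haz, -, hac, ⟨k, hk⟩, rfl⟩ := Transfer.exists_pPart_decomp (p := r) t
  have hb1 : b ^ r ^ k = 1 := hk ▸ pow_orderOf_eq_one b
  have ha : a ∈ Z := by
    obtain ⟨m, hm⟩ := exists_pow_eq_self_of_coprime (x := a) (n := r ^ (i + k))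
      (hac.pow_right (i + k)).symm
    rw [← hm]
    refine Z.pow_mem ?_ m
    have : a ^ r ^ (i + k) = ((a * b) ^ r ^ i) ^ r ^ k := by
      rw [← pow_mul, ← pow_add, mul_pow, pow_add r i k, pow_mul b, ← pow_mul b,
        mul_comm (r ^ i), pow_mul b, hb1, one_pow, mul_one]
    rw [this]; exact Z.pow_mem hi _
  refine ⟨b, fun h => htZ (Z.mul_mem ha h), ⟨k, hb1⟩, fun ω hω => ?_⟩
  have := congrArg Subtype.val (MulAction.mem_fixedPoints.1 hxf ⟨ω, hω⟩)
  rw [show (((⟨ω, hω⟩ : P) • (⟨_, _⟩ : X)) : X).1 = β ω _ from rfl, hβ, QuotientGroup.eq] at this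
  rw [map_mul, S.fixed ω a ha] at this
  have := Z.inv_mem this
  simpa [mul_comm, mul_left_comm, mul_assoc] using this

theorem Semiregular.not_commute (S : Semiregular α Z) {g h : Ω} {r : ℕ} [Fact r.Prime]
    (hT : HasPart r Z) (hg : orderOf g = r) (hh : (orderOf h).Coprime r) (hh1 : h ≠ 1) :
    ¬ Commute g h := by
  intro hc
  have hg1 : g ≠ 1 := by
    rintro rfl; rw [orderOf_one] at hg; exact (Fact.out : r.Prime).ne_one hg.symm
  have hP : IsPGroup r (zpowers g) :=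
    IsPGroup.of_card (n := 1) (by rw [Nat.card_zpowers, hg, pow_one])
  obtain ⟨u, hu, ⟨j, hj⟩, hfix⟩ := S.exists_fixed_mod hT hP
  set c := α g u * u⁻¹
  have hcZ : c ∈ Z := hfix g (mem_zpowers g)
  have hgu : α g u = c * u := (inv_mul_cancel_right (α g u) u).symm
  obtain ⟨z, hz⟩ : ∃ z, z = α h u * u⁻¹ := ⟨_, rfl⟩
  have hzZ : z ∈ Z := by
    refine S.free g _ hg1 ?_
    rw [hz, map_mul, ← MulAut.mul_apply, ← map_mul, hc.eq, map_mul, MulAut.mul_apply, map_inv, hgu,
      map_mul, S.fixed h c hcZ]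
    simp [mul_comm, mul_left_comm]
  have hhu : α h u = z * u := by rw [hz, inv_mul_cancel_right]
  have hit : ∀ n : ℕ, α (h ^ n) u = z ^ n * u := by
    intro n
    induction n with
    | zero => simp
    | succ n ih =>
      rw [pow_succ', map_mul, MulAut.mul_apply, ih, map_mul, map_pow, S.fixed h z hzZ, hhu,
        pow_succ, mul_assoc]
  have hzn : z ^ orderOf h = 1 := by
    have := hit (orderOf h)
    rw [pow_orderOf_eq_one, map_one, MulAut.one_apply, eq_comm, mul_eq_right] at this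
    exact this
  have hzr : z ^ r ^ j = 1 := by
    rw [hz, mul_pow, ← map_pow, hj, map_one, inv_pow, hj, inv_one, mul_one]
  have hz1 : z = 1 := orderOf_eq_one_iff.1 (Nat.eq_one_of_dvd_coprimes (hh.pow_right j)
    (orderOf_dvd_of_pow_eq_one hzn) (orderOf_dvd_of_pow_eq_one hzr))
  exact hu (S.free h u hh1 (by rw [hhu, hz1, one_mul]))

/-- No subgroup of order `r * s`, `s ≠ r` a prime. -/
theorem Semiregular.not_normalizes (S : Semiregular α Z) {g h : Ω} {r s p : ℕ} [Fact r.Prime]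
    (hs : s.Prime) (hsr : s ≠ r) (hT : HasPart r Z) (hp : HasPart p Z) (hrp : r.Coprime p)
    (hg : orderOf g = r) (hh : orderOf h = s) : h * g * h⁻¹ ∉ zpowers g := by
  intro hn
  have hr := (Fact.out : r.Prime)
  have hnc := S.not_commute hT hg (h := h)
    (hh ▸ (Nat.coprime_primes hs hr).2 hsr) (by rintro rfl; simp at hh; exact hs.ne_one hh.symm)
  obtain ⟨u, hu, hj⟩ := hp
  refine hu (mem_of_pow_mem hrp hj (S.pow_mem_of_family (h := h)
    (by rintro rfl; simp at hg; exact hr.ne_one hg.symm) hg hs.one_lt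
    (fun a => g ^ (a : ℕ) * h * (g ^ (a : ℕ))⁻¹) (fun a => ?_) (fun b a => ?_)
    (fun b hb hb' a a' e => ?_) u))
  · rw [← hh]; exact ((MulAut.conj (g ^ (a : ℕ))).orderOf_eq h)
  · rw [conj_pow, mul_assoc _ _ (h ^ b)⁻¹, mul_assoc, ← mul_assoc (h ^ b)]
    exact mul_mem (pow_mem (mem_zpowers g) _)
      (conj_mem_zpowers hn (inv_mem (pow_mem (mem_zpowers g) _)) b)
  · simp only [conj_pow] at e
    set d := (g ^ (a' : ℕ))⁻¹ * g ^ (a : ℕ)
    have hd : Commute d (h ^ b) := commute_of_conj_eq_conj e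
    by_contra hne
    have hd1 : d ≠ 1 := fun e1 => hne (Fin.ext (pow_injOn_Iio_orderOf
      (Set.mem_Iio.2 (hg ▸ a.2)) (Set.mem_Iio.2 (hg ▸ a'.2)) (inv_mul_eq_one.1 e1).symm))
    obtain ⟨i, hi⟩ := mem_zpowers_iff.1 (zpowers_pow_eq_of_prime hr hg
      (mul_mem (inv_mem (pow_mem (mem_zpowers g) _)) (pow_mem (mem_zpowers g) _)) hd1)
    obtain ⟨l, hl⟩ := mem_zpowers_iff.1 (mem_zpowers_pow hs hh hb hb')
    exact hnc (hi ▸ hl ▸ hd.zpow_zpow i l)

/-- No subgroup `r × r`. -/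
theorem Semiregular.mem_zpowers_of_commute (S : Semiregular α Z) {g h : Ω} {r p : ℕ}
    [Fact r.Prime] (hp : HasPart p Z) (hrp : r.Coprime p)
    (hg : orderOf g = r) (hh : orderOf h = r) (hc : Commute g h) : h ∈ zpowers g := by
  have hr := (Fact.out : r.Prime)
  by_contra hn
  obtain ⟨u, hu, hj⟩ := hp
  refine hu (mem_of_pow_mem hrp hj (S.pow_mem_of_family (h := h) (s := r)
    (by rintro rfl; simp at hg; exact hr.ne_one hg.symm) hg hr.one_lt
    (fun a => g ^ (a : ℕ) * h) (fun a => ?_) (fun b a => ?_) (fun b hb hb' a a' e => ?_) u))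
  · refine orderOf_eq_prime ?_ fun e => hn ?_
    · have h1 : g ^ r = 1 := hg ▸ pow_orderOf_eq_one g
      have h2 : h ^ r = 1 := hh ▸ pow_orderOf_eq_one h
      rw [(hc.pow_left _).mul_pow, ← pow_mul, mul_comm, pow_mul, h1, one_pow, one_mul, h2]
    · rw [← inv_eq_of_mul_eq_one_right e]; exact inv_mem (pow_mem (mem_zpowers g) _)
  · rw [(hc.pow_left _).mul_pow, mul_inv_cancel_right, ← pow_mul]
    exact pow_mem (mem_zpowers g) _
  · simp only [(hc.pow_left _).mul_pow, mul_left_inj, ← pow_mul] at e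
    rw [pow_eq_pow_iff_modEq, hg] at e
    have h1 := Nat.ModEq.cancel_right_of_coprime
      ((hr.coprime_iff_not_dvd).2 fun h => absurd (Nat.le_of_dvd hb h) (by omega)).gcd_eq_one e
    exact Fin.ext (Nat.ModEq.eq_of_lt_of_lt h1 a.2 a'.2)

theorem Semiregular.commute_of_isPGroup (S : Semiregular α Z) {r : ℕ} [Fact r.Prime]
    (hT : HasPart r Z) {P : Subgroup Ω} (hP : IsPGroup r P) {a b : Ω} (ha : a ∈ P) (hb : b ∈ P) :
    a * b = b * a := by
  obtain ⟨u, hu, -, hfix⟩ := S.exists_fixed_mod hT hP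
  have hdec : ∀ x ∈ P, α x u = (α x u * u⁻¹) * u := fun x _ => (inv_mul_cancel_right _ u).symm
  have h2 : ∀ x ∈ P, ∀ y ∈ P, α (x * y) u = (α y u * u⁻¹) * (α x u * u⁻¹) * u := by
    intro x hx y hy
    rw [map_mul, MulAut.mul_apply, hdec y hy, map_mul, S.fixed x _ (hfix y hy)]
    simp [mul_assoc]
  by_contra hne
  refine hu (S.free ((b * a)⁻¹ * (a * b)) u (fun e => hne (inv_mul_eq_one.1 e).symm) ?_)
  have he : α (a * b) u = α (b * a) u := by rw [h2 a ha b hb, h2 b hb a ha, mul_comm (α b u * u⁻¹)]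
  rw [map_mul α (b * a)⁻¹, MulAut.mul_apply, he, map_inv]
  exact (α (b * a)).symm_apply_apply u

theorem Semiregular.not_dvd (S : Semiregular α Z) {r q : ℕ} [Fact r.Prime] [Fact q.Prime]
    (hrq : r ≠ q) (hr : HasPart r Z) (hq : HasPart q Z) (hrΩ : r ∣ Nat.card Ω)
    (hqΩ : q ∣ Nat.card Ω) : False := by
  have hrP := (Fact.out : r.Prime)
  have hqP := (Fact.out : q.Prime)
  have hcop : r.Coprime q := (Nat.coprime_primes hrP hqP).2 hrq
  let P : Sylow r Ω := default
  have hPcomm : ∀ a ∈ (P : Subgroup Ω), ∀ b ∈ (P : Subgroup Ω), a * b = b * a :=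
    fun a ha b hb => S.commute_of_isPGroup hr P.2 ha hb
  obtain ⟨x, hxo⟩ : ∃ x : P, orderOf x = r :=
    exists_prime_orderOf_dvd_card' r (P.dvd_card_of_dvd_card hrΩ)
  have hx : orderOf (x : Ω) = r := by rw [Subgroup.orderOf_coe]; exact hxo
  have hNP : normalizer ((P : Subgroup Ω) : Set Ω) ≤ centralizer ((P : Subgroup Ω) : Set Ω) := by
    have hle : normalizer ((P : Subgroup Ω) : Set Ω) ≤ P := by
      refine (P.3 (IsPGroup.of_card
        (Nat.eq_prime_pow_of_unique_prime_dvd Nat.card_pos.ne' ?_)) le_normalizer).le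
      intro s hs hsd
      by_contra hsr
      haveI := Fact.mk hs
      obtain ⟨n, hno⟩ := exists_prime_orderOf_dvd_card' s hsd
      have hn : orderOf (n : Ω) = s := by rw [Subgroup.orderOf_coe]; exact hno
      have hmem : (n : Ω) * x * (n : Ω)⁻¹ ∈ (P : Subgroup Ω) :=
        (mem_normalizer_iff.1 n.2 x).1 x.2
      refine S.not_normalizes hs hsr hr hq hcop hx hn
        (S.mem_zpowers_of_commute hq hcop hx ?_ (hPcomm _ x.2 _ hmem))
      exact ((MulAut.conj (n : Ω)).orderOf_eq x).trans hx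
    exact hle.trans fun a ha => mem_centralizer_iff.2 fun b hb => hPcomm b hb a ha
  have hcompl := MonoidHom.ker_transferSylow_isComplement' P hNP
  set K := (MonoidHom.transferSylow P hNP).ker
  have hKP : K.index = Nat.card P := hcompl.symm.index_eq_card
  have hrK : ¬ r ∣ Nat.card K := MonoidHom.not_dvd_card_ker_transferSylow P hNP
  have hqK : q ∣ Nat.card K := by
    rw [← K.card_mul_index, hKP] at hqΩ
    refine (hqP.dvd_mul.1 hqΩ).resolve_right fun h => ?_
    obtain ⟨n, hn⟩ := IsPGroup.iff_card.1 P.2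
    exact hrq ((Nat.prime_dvd_prime_iff_eq hqP hrP).1 (hqP.dvd_of_dvd_pow (hn ▸ h))).symm
  let Q : Sylow q K := default
  have htop : normalizer (((Q : Subgroup K).map K.subtype : Subgroup Ω) : Set Ω) ⊔ K = ⊤ := Sylow.normalizer_sup_eq_top Q
  set Ng := normalizer (((Q : Subgroup K).map K.subtype : Subgroup Ω) : Set Ω)
  have hrNg : r ∣ Nat.card Ng := by
    have h1 : K.index = K.relIndex Ng := by
      rw [← relIndex_top_right, ← htop, relIndex_sup_right]
    exact (P.dvd_card_of_dvd_card hrΩ).trans ((hKP.symm.trans h1) ▸ relIndex_dvd_card K Ng)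
  obtain ⟨g, hgo⟩ := exists_prime_orderOf_dvd_card' r hrNg
  obtain ⟨y, hyo⟩ := exists_prime_orderOf_dvd_card' q (Q.dvd_card_of_dvd_card hqK)
  have hg : orderOf (g : Ω) = r := by rw [Subgroup.orderOf_coe]; exact hgo
  have hy : orderOf ((y : K) : Ω) = q := by rw [Subgroup.orderOf_coe, Subgroup.orderOf_coe]; exact hyo
  have hyQ : ((y : K) : Ω) ∈ (Q : Subgroup K).map K.subtype := mem_map_of_mem _ y.2
  have hmem : (g : Ω) * ((y : K) : Ω) * (g : Ω)⁻¹ ∈ (Q : Subgroup K).map K.subtype :=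
    (mem_normalizer_iff.1 g.2 _).1 hyQ
  refine S.not_normalizes hrP hrq hq hr hcop.symm hy hg (S.mem_zpowers_of_commute hr hcop.symm hy
    ?_ (S.commute_of_isPGroup hq (Q.2.map K.subtype) hyQ hmem))
  exact ((MulAut.conj (g : Ω)).orderOf_eq _).trans hy

end Cfsg.Agent.Lib.TwoClassSizes
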